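import Cfsg.Agent.RankOneBN.Split
import Cfsg.Agent.RankOneBN.Nil.Main
import Cfsg.Agent.RankOne.Classify.GlueBender
import Cfsg.Agent.RankOne.Classify.PiecesProof
import Cfsg.Prelude.Def_Exceptional

/-!
Split (B, N)-pairs of rank one and odd index in simple groups: the shape of S0349.
-/

set_option autoImplicit false
set_option linter.style.haveILetI false

universe u

namespace CfsgLib.RankOneBN

open Cfsg CfsgLib.RankOneClassify

theorem split_rank_one_unconditional {G : Type u} [Group G] [Finite G] [IsSimpleGroup G]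
    (P : Cfsg.BNPair G) (hrank : P.rank = 1) (U : Subgroup G) (hUB : U ≤ P.B)
    (hUn : (U.subgroupOf P.B).Normal) (hUnil : Group.IsNilpotent U)
    (hsplit : U ⊔ (P.B ⊓ P.N) = P.B)
    (hdisj : U ⊓ P.N = ⊥) (hind : Odd P.B.index) (hH : Odd (Nat.card ↥(P.B ⊓ P.N))) :
    (∃ (F : Type) (_ : Field F) (_ : Fintype F), (∃ n : ℕ, Fintype.card F = 2 ^ n) ∧
        Nonempty (G ≃* Matrix.ProjectiveSpecialLinearGroup (Fin 2) F)) ∨
      Cfsg.IsSuzuki G ∨
      (∃ (F : Type) (_ : Field F) (_ : Fintype F) (n : ℕ), 2 ≤ n ∧ Fintype.card F = (2 ^ n) ^ 2 ∧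
        Nonempty (G ≃* Cfsg.PSU 3 F (2 ^ n))) := by
  have hcard : Nat.card P.S = 1 := hrank
  obtain ⟨hsub, -⟩ := Nat.card_eq_one_iff_unique.mp hcard
  obtain ⟨w, hw⟩ := Set.exists_eq_singleton_iff_nonempty_subsingleton.mpr
    ⟨Set.nonempty_coe_sort.mp (Nat.card_eq_one_iff_unique.mp hcard).2,
      Set.subsingleton_coe _ |>.mp hsub⟩
  have hne : P.B ≠ ⊤ := fun e => s_not_mem_B P hw (e ▸ Subgroup.mem_top w)
  haveI := hUn
  have hrel : U.relIndex P.B = Nat.card ↥(P.B ⊓ P.N) := by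
    have hdis : U ⊓ (P.B ⊓ P.N) = ⊥ :=
      le_bot_iff.mp ((inf_le_inf_left _ inf_le_right).trans hdisj.le)
    have e := Subgroup.relIndex_sup_left (H := (P.B ⊓ P.N).subgroupOf P.B) (K := U.subgroupOf P.B)
    rw [← Subgroup.subgroupOf_sup hUB inf_le_left, hsplit, Subgroup.subgroupOf_self,
      Subgroup.relIndex_top_right, Subgroup.relIndex_subgroupOf inf_le_left,
      ← Subgroup.inf_relIndex_right, hdis, Subgroup.relIndex_bot_left] at e
    exact e
  have h : Nil.NilSplit P.B U :=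
    { ne_top := hne
      core := (Subgroup.normalCore_normal P.B).eq_bot_or_eq_top.resolve_right fun e =>
        hne (top_le_iff.mp (e ▸ Subgroup.normalCore_le P.B))
      odd_index := hind
      le := hUB
      conj_mem := fun b hb x hx => by
        have := hUn.conj_mem ⟨x, hUB hx⟩ hx ⟨b, hb⟩
        simpa [Subgroup.mem_subgroupOf] using this
      nilp := hUnil
      odd_rel := hrel ▸ hH
      trans := fun g₁ g₂ hg₁ hg₂ => by
        obtain ⟨u₁, hu₁, b₁, hb₁, rfl⟩ := exists_decomp P hw hUB hUn hsplit hg₁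
        obtain ⟨u₂, hu₂, b₂, hb₂, rfl⟩ := exists_decomp P hw hUB hUn hsplit hg₂
        refine ⟨u₂ * u₁⁻¹, mul_mem hu₂ (inv_mem hu₁), ?_⟩
        rw [show (u₂ * w * b₂)⁻¹ * (u₂ * u₁⁻¹ * (u₁ * w * b₁)) = b₂⁻¹ * b₁ by group]
        exact mul_mem (inv_mem hb₂) hb₁ }
  obtain ⟨hSE, -, hQ⟩ := Nil.regularOff_of_simple h
  rcases simple_list pieces hSE hQ with ⟨F, hFi, hFt, n, -, hF, e⟩ |
    ⟨F, hFi, hFt, m, hm, hF, ⟨e⟩⟩ | h3
  · exact Or.inl ⟨F, hFi, hFt, ⟨n, hF⟩, e⟩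
  · letI := hFi; letI := hFt
    refine Or.inr (Or.inl ⟨inferInstance, m, hm, ?_⟩)
    rw [Nat.card_congr e.toEquiv, (Cfsg.Agent.S1163.result hm hF).1]
    ring
  · exact Or.inr (Or.inr h3)

end CfsgLib.RankOneBN
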